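import Cfsg.Agent.H100.Ppd.Basic
import Cfsg.Agent.H364.OutLie
import Cfsg.Agent.H203.LSG2
import Cfsg.Agent.H203.LSF4even
import Cfsg.Agent.H203.LSF4odd
import Cfsg.Agent.H203.LSE6
import Cfsg.Agent.H203.LSE7
import Cfsg.Agent.H203.LSE8
import Cfsg.Agent.H95.LSx.F42
import Cfsg.Agent.H95.LSx.G23
import Cfsg.Agent.H129.CycRow
import Cfsg.Agent.S1059
import Cfsg.Agent.S1062
import Cfsg.Agent.S1063
import Cfsg.Agent.S1064
import Cfsg.Agent.S1065

/-!
# TEAM PPD (S5948), cross characteristic: the exceptional groups `G₂`, `F₄`, `E₆`, `E₇`, `E₈` (helper371)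

* `card_aut_dvd` : `|Aut S|` divides `24 d f |S|`, `S` of Lie type over the field of `p ^ f` elements;
* `prime_cases` : the prime divisors `≥ 5` of `|Aut S|`;
* `row_g2`, `row_f4`, `row_e6`, `row_e7`, `row_e8`.
-/

set_option autoImplicit false

namespace Cfsg.Agent.H371.Ppd

open Cfsg Cfsg.Geo Matrix Cfsg.Agent.H915.LD Cfsg.Agent.H100.Ppd
open Cfsg.Agent.OrdDiv (Grp)
open Cfsg.Agent.H902 Cfsg.Agent.H902.Names

universe u v

section gen

variable {S : Type*} [Group S] [Finite S] [IsSimpleGroup S] {g : Grp} {X : Art.Sh} {p f : ℕ}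

theorem card_aut_dvd (hna : ¬ IsMulCommutative S) (hg : IsLie g X p f) (h : OrdDiv.Real g S)
    (hr : Art.Real X p f (Nat.card S)) : Nat.card (MulAut S) ∣ 24 * Art.dd X (p ^ f) * f * Nat.card S := by
  obtain ⟨c, hc1, hc2, -⟩ := H364.OutLie.card_out (fun h => hna ⟨⟨h⟩⟩) hg h hr
  rw [← H934.OutB.card_out_mul S hna, hc1]
  exact Nat.mul_dvd_mul_right (Nat.mul_dvd_mul_right hc2 _) _

/-- the prime divisors `≥ 5` of `|Aut S|` -/
theorem prime_cases (hna : ¬ IsMulCommutative S) (hg : IsLie g X p f) (h : OrdDiv.Real g S)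
    (hr : Art.Real X p f (Nat.card S)) (hdd : Art.dd X (p ^ f) ∣ 6) {t : ℕ} (ht : t.Prime) (h5 : 5 ≤ t)
    (hd : t ∣ Nat.card (MulAut S)) : t ≤ p ^ f ∨ t ∣ Art.num X (p ^ f) := by
  have h6 : ¬ t ∣ 6 := fun h6 => by
    have := Nat.le_of_dvd (by norm_num) h6
    have h7 : t = 5 ∨ t = 6 := by omega
    rcases h7 with rfl | rfl
    · exact absurd h6 (by norm_num)
    · exact absurd ht (by norm_num)
  have h1 := hd.trans (card_aut_dvd hna hg h hr)
  rcases ht.dvd_mul.1 h1 with h2 | h2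
  · rcases ht.dvd_mul.1 h2 with h3 | h3
    · exfalso
      rcases ht.dvd_mul.1 h3 with h4 | h4
      · refine h6 (ht.dvd_of_dvd_pow (n := 3) (h4.trans ?_))
        norm_num
      · exact h6 (h4.trans hdd)
    · exact Or.inl ((Nat.le_of_dvd hr.hf h3).trans (Nat.lt_pow_self hr.hp.one_lt).le)
  · have h3 : t ∣ (p ^ f) ^ Art.NN X * Art.num X (p ^ f) := by
      rw [← hr.eq]
      exact h2.mul_left _
    rcases ht.dvd_mul.1 h3 with h4 | h4
    · left
      refine Nat.le_of_dvd (Nat.pow_pos hr.hp.pos) (ht.dvd_of_dvd_pow h4)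
    · exact Or.inr h4

end gen

section num

theorem le_of_dvd_even {t s j : ℕ} (ht : t.Prime) (hs : 2 ≤ s) (hj : 1 ≤ j) (h : t ∣ s ^ (2 * j) - 1) :
    t ≤ s ^ j + 1 := by
  have h1 : s ^ (2 * j) - 1 = (s ^ j + 1) * (s ^ j - 1) := by
    have := Nat.sq_sub_sq (s ^ j) 1
    rwa [one_pow, ← pow_mul, mul_comm j 2] at this
  have h2 : 2 ≤ s ^ j := hs.trans (Nat.le_self_pow (by omega) s)
  rw [h1] at h
  rcases ht.dvd_mul.1 h with h3 | h3
  · exact Nat.le_of_dvd (by omega) h3
  · have := Nat.le_of_dvd (by omega) h3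
    omega

theorem pow_mono' {s a b : ℕ} (hs : 2 ≤ s) (h : a ≤ b) : s ^ a ≤ s ^ b := Nat.pow_le_pow_right (by omega) h

/-- `E₈` -/
theorem num_e8 {t s : ℕ} (ht : t.Prime) (hs : 2 ≤ s) (h : t ≤ s ∨ t ∣ Art.num .E8 s) : t ≤ s ^ 15 + 1 := by
  rcases h with h | h
  · have := Nat.le_self_pow (n := 15) (by norm_num) s
    omega
  · simp only [Art.num] at h
    have key : ∀ j, 1 ≤ j → j ≤ 15 → t ∣ s ^ (2 * j) - 1 → t ≤ s ^ 15 + 1 := fun j h1 h2 h3 =>
      (le_of_dvd_even ht hs h1 h3).trans (Nat.add_le_add_right (pow_mono' hs h2) 1)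
    rcases ht.dvd_mul.1 h with h | h
    · rcases ht.dvd_mul.1 h with h | h
      · rcases ht.dvd_mul.1 h with h | h
        · rcases ht.dvd_mul.1 h with h | h
          · rcases ht.dvd_mul.1 h with h | h
            · rcases ht.dvd_mul.1 h with h | h
              · rcases ht.dvd_mul.1 h with h | h
                · exact key 1 (by norm_num) (by norm_num) h
                · exact key 4 (by norm_num) (by norm_num) h
              · exact key 6 (by norm_num) (by norm_num) h
            · exact key 7 (by norm_num) (by norm_num) h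
          · exact key 9 (by norm_num) (by norm_num) h
        · exact key 10 (by norm_num) (by norm_num) h
      · exact key 12 (by norm_num) (by norm_num) h
    · exact key 15 (by norm_num) (by norm_num) h

/-- `E₇` -/
theorem num_e7 {t s : ℕ} (ht : t.Prime) (hs : 2 ≤ s) (h : t ≤ s ∨ t ∣ Art.num .E7 s) : t ≤ s ^ 9 + 1 := by
  rcases h with h | h
  · have := Nat.le_self_pow (n := 9) (by norm_num) s
    omega
  · simp only [Art.num] at h
    have key : ∀ j, 1 ≤ j → j ≤ 9 → t ∣ s ^ (2 * j) - 1 → t ≤ s ^ 9 + 1 := fun j h1 h2 h3 =>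
      (le_of_dvd_even ht hs h1 h3).trans (Nat.add_le_add_right (pow_mono' hs h2) 1)
    rcases ht.dvd_mul.1 h with h | h
    · rcases ht.dvd_mul.1 h with h | h
      · rcases ht.dvd_mul.1 h with h | h
        · rcases ht.dvd_mul.1 h with h | h
          · rcases ht.dvd_mul.1 h with h | h
            · rcases ht.dvd_mul.1 h with h | h
              · exact key 1 (by norm_num) (by norm_num) h
              · exact key 3 (by norm_num) (by norm_num) h
            · exact key 4 (by norm_num) (by norm_num) h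
          · exact key 5 (by norm_num) (by norm_num) h
        · exact key 6 (by norm_num) (by norm_num) h
      · exact key 7 (by norm_num) (by norm_num) h
    · exact key 9 (by norm_num) (by norm_num) h

theorem cube_eq {x : ℕ} (hx : 1 ≤ x) : x ^ 3 - 1 = (x ^ 2 + x + 1) * (x - 1) := by
  obtain ⟨y, rfl⟩ : ∃ y, x = y + 1 := ⟨x - 1, by omega⟩
  rw [Nat.add_sub_cancel]
  have : (y + 1) ^ 3 = ((y + 1) ^ 2 + (y + 1) + 1) * y + 1 := by ring
  omega

/-- `E₆` -/
theorem num_e6 {t s : ℕ} (ht : t.Prime) (hs : 2 ≤ s) (h : t ≤ s ∨ t ∣ Art.num .E6 s) :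
    t ≤ s ^ 6 + s ^ 3 + 1 := by
  have h5 := pow_mono' (s := s) (a := 5) (b := 6) hs (by norm_num)
  have h4 := pow_mono' (s := s) (a := 4) (b := 6) hs (by norm_num)
  have h31 : 1 ≤ s ^ 3 := Nat.one_le_pow _ _ (by omega)
  rcases h with h | h
  · have := Nat.le_self_pow (n := 6) (by norm_num) s
    omega
  · simp only [Art.num] at h
    have key : ∀ j, 1 ≤ j → j ≤ 6 → t ∣ s ^ (2 * j) - 1 → t ≤ s ^ 6 + s ^ 3 + 1 := fun j h1 h2 h3 => by
      have := (le_of_dvd_even ht hs h1 h3).trans (Nat.add_le_add_right (pow_mono' hs h2) 1)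
      omega
    rcases ht.dvd_mul.1 h with h | h
    · rcases ht.dvd_mul.1 h with h | h
      · rcases ht.dvd_mul.1 h with h | h
        · rcases ht.dvd_mul.1 h with h | h
          · rcases ht.dvd_mul.1 h with h | h
            · exact key 1 (by norm_num) (by norm_num) h
            · have h7 : 2 ≤ s ^ 5 := hs.trans (Nat.le_self_pow (by norm_num) s)
              have := Nat.le_of_dvd (by omega) h
              omega
          · exact key 3 (by norm_num) (by norm_num) h
        · exact key 4 (by norm_num) (by norm_num) h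
      · have h8 : s ^ 9 - 1 = ((s ^ 3) ^ 2 + s ^ 3 + 1) * (s ^ 3 - 1) := by
          rw [← cube_eq h31, ← pow_mul]
        rw [h8, ← pow_mul] at h
        have h7 : 2 ≤ s ^ 3 := hs.trans (Nat.le_self_pow (by norm_num) s)
        rcases ht.dvd_mul.1 h with h | h
        · exact Nat.le_of_dvd (by omega) h
        · have := Nat.le_of_dvd (by omega) h
          omega
    · exact key 6 (by norm_num) (by norm_num) h

/-- `F₄` -/
theorem num_f4 {t s : ℕ} (ht : t.Prime) (hs : 2 ≤ s) (h : t ≤ s ∨ t ∣ Art.num .F4 s) : t ≤ s ^ 4 + 1 := by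
  rcases h with h | h
  · have := Nat.le_self_pow (n := 4) (by norm_num) s
    omega
  · simp only [Art.num] at h
    have key : ∀ j, 1 ≤ j → j ≤ 4 → t ∣ s ^ (2 * j) - 1 → t ≤ s ^ 4 + 1 := fun j h1 h2 h3 =>
      (le_of_dvd_even ht hs h1 h3).trans (Nat.add_le_add_right (pow_mono' hs h2) 1)
    rcases ht.dvd_mul.1 h with h | h
    · rcases ht.dvd_mul.1 h with h | h
      · rcases ht.dvd_mul.1 h with h | h
        · exact key 1 (by norm_num) (by norm_num) h
        · exact key 3 (by norm_num) (by norm_num) h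
      · exact key 4 (by norm_num) (by norm_num) h
    · have h41 : 1 ≤ s ^ 4 := Nat.one_le_pow _ _ (by omega)
      have h8 : s ^ 12 - 1 = ((s ^ 4) ^ 2 + s ^ 4 + 1) * (s ^ 4 - 1) := by
        rw [← cube_eq h41, ← pow_mul]
      have h9 : (s ^ 4) ^ 2 + s ^ 4 + 1 = (s ^ 4 - s ^ 2 + 1) * (s ^ 4 + s ^ 2 + 1) := by
        obtain ⟨y, hy⟩ : ∃ y, s ^ 4 = y + s ^ 2 := ⟨s ^ 4 - s ^ 2, by
          have := pow_mono' (s := s) (a := 2) (b := 4) hs (by norm_num)
          omega⟩
        have h10 : s ^ 4 = (s ^ 2) ^ 2 := by rw [← pow_mul]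
        rw [hy, Nat.add_sub_cancel]
        rw [h10] at hy
        nlinarith [hy]
      have h11 : s ^ 4 + s ^ 2 + 1 = (s ^ 2 + s + 1) * (s ^ 2 - s + 1) := by
        obtain ⟨y, hy⟩ : ∃ y, s ^ 2 = y + s := ⟨s ^ 2 - s, by
          have := Nat.le_self_pow (n := 2) (by norm_num) s
          omega⟩
        have h10 : s ^ 4 = (s ^ 2) ^ 2 := by rw [← pow_mul]
        rw [h10, hy, Nat.add_sub_cancel]
        nlinarith [hy]
      have h24 := pow_mono' (s := s) (a := 2) (b := 4) hs (by norm_num)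
      have h34 := pow_mono' (s := s) (a := 3) (b := 4) hs (by norm_num)
      have h23 : s ^ 2 + s ≤ s ^ 3 := by nlinarith [Nat.pos_of_ne_zero (show s ≠ 0 by omega), sq_nonneg s]
      rw [h8, h9, h11] at h
      rcases ht.dvd_mul.1 h with h | h
      · rcases ht.dvd_mul.1 h with h | h
        · have := Nat.le_of_dvd (by omega) h
          omega
        · rcases ht.dvd_mul.1 h with h | h
          · have := Nat.le_of_dvd (by omega) h
            omega
          · have := Nat.le_of_dvd (by omega) h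
            omega
      · have h7 : 2 ≤ s ^ 4 := hs.trans (Nat.le_self_pow (by norm_num) s)
        have := Nat.le_of_dvd (by omega) h
        omega

end num

/-! ### Rows -/

section rows

variable {n : ℕ} {F : Type u} [Field F] [Finite F] {k m : ℕ} {P : Subgroup (GL (Fin n) F)}

/-- the order of a finite field of characteristic `r` -/
theorem exists_card {K : Type} [Field K] [Fintype K] (r : ℕ) [CharP K r] :
    ∃ f, 1 ≤ f ∧ Fintype.card K = r ^ f := by
  obtain ⟨f, -, hf⟩ := FiniteField.card K r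
  exact ⟨f, f.2, hf⟩

/-- **`E₈`.** -/
theorem row_e8 (h : Row k m P) {r : ℕ} (hr : r.Prime) (hrF : (r : F) ≠ 0) {K : Type} [Field K] [Fintype K]
    [CharP K r] (e : Soc P ≃* Lie.chevE8.group K) : False := by
  obtain ⟨f, hf, hK⟩ := exists_card (K := K) r
  have := h.simple e
  have hna := h.not_comm e
  have hs : 2 ≤ r ^ f := by rw [← hK]; exact Fintype.one_lt_card
  have h1 := h.le_of_ls e hrF (H203.LS.E8.ls K)
  rw [Nat.card_eq_fintype_card, hK] at h1
  obtain ⟨t, ht, htm⟩ := h.num.exists_prime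
  have h2 := h.num.le_two_mul ht htm
  have h3 := num_e8 ht hs (prime_cases hna (IsLie.e8 r f) ⟨K, _, _, hK, ⟨MulEquiv.refl _⟩⟩
    ⟨hr, hf, trivial, by
      rw [show Art.dd .E8 (r ^ f) = 1 from rfl, one_mul, Cfsg.Agent.S1065.result (F := K) hK]
      simp only [Art.NN, Art.num, mul_assoc]⟩ (by rw [show Art.dd .E8 (r ^ f) = 1 from rfl]; norm_num) ht
    (by have := h.num.seven_le ht htm; omega) (htm.trans (h.dvd_card e)))
  generalize r ^ f = s at *
  have h4 : 1 * s ^ 28 ≤ (s - 1) * s ^ 28 := Nat.mul_le_mul_right _ (by omega)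
  have h5 : s ^ 28 = s ^ 13 * s ^ 15 := by rw [← pow_add]
  have h6 : 2 ^ 13 ≤ s ^ 13 := Nat.pow_le_pow_left hs 13
  have h7 : 2 ^ 13 * s ^ 15 ≤ s ^ 13 * s ^ 15 := Nat.mul_le_mul_right _ h6
  omega

/-- **`E₇`.** -/
theorem row_e7 (h : Row k m P) {r : ℕ} (hr : r.Prime) (hrF : (r : F) ≠ 0) {K : Type} [Field K] [Fintype K]
    [CharP K r] (e : Soc P ≃* Lie.chevE7.group K) : False := by
  obtain ⟨f, hf, hK⟩ := exists_card (K := K) r
  have := h.simple e
  have hna := h.not_comm e
  have hs : 2 ≤ r ^ f := by rw [← hK]; exact Fintype.one_lt_card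
  have h1 := h.le_of_ls e hrF (H203.LS.E7.ls K)
  rw [Nat.card_eq_fintype_card, hK] at h1
  obtain ⟨t, ht, htm⟩ := h.num.exists_prime
  have h2 := h.num.le_two_mul ht htm
  have h3 := num_e7 ht hs (prime_cases hna (IsLie.e7 r f) ⟨K, _, _, hK, ⟨MulEquiv.refl _⟩⟩
    ⟨hr, hf, trivial, by
      rw [show Art.dd .E7 (r ^ f) = Nat.gcd 2 (r ^ f - 1) from rfl, Cfsg.Agent.S1064.result (F := K) hK]
      simp only [Art.NN, Art.num, mul_assoc]⟩
    ((Nat.gcd_dvd_left 2 (r ^ f - 1)).trans (by norm_num)) ht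
    (by have := h.num.seven_le ht htm; omega) (htm.trans (h.dvd_card e)))
  generalize r ^ f = s at *
  have h4 : 1 * s ^ 16 ≤ (s - 1) * s ^ 16 := Nat.mul_le_mul_right _ (by omega)
  have h5 : s ^ 16 = s ^ 7 * s ^ 9 := by rw [← pow_add]
  have h6 : 2 ^ 7 ≤ s ^ 7 := Nat.pow_le_pow_left hs 7
  have h7 : 2 ^ 7 * s ^ 9 ≤ s ^ 7 * s ^ 9 := Nat.mul_le_mul_right _ h6
  omega

/-- **`E₆`.** -/
theorem row_e6 (h : Row k m P) {r : ℕ} (hr : r.Prime) (hrF : (r : F) ≠ 0) {K : Type} [Field K] [Fintype K]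
    [CharP K r] (e : Soc P ≃* Lie.chevE6.group K) : False := by
  obtain ⟨f, hf, hK⟩ := exists_card (K := K) r
  have := h.simple e
  have hna := h.not_comm e
  have hs : 2 ≤ r ^ f := by rw [← hK]; exact Fintype.one_lt_card
  have h1 := h.le_of_ls e hrF (H203.LS.E6.ls K)
  rw [Nat.card_eq_fintype_card, hK] at h1
  obtain ⟨t, ht, htm⟩ := h.num.exists_prime
  have h2 := h.num.le_two_mul ht htm
  have h3 := num_e6 ht hs (prime_cases hna (IsLie.e6 r f) ⟨K, _, _, hK, ⟨MulEquiv.refl _⟩⟩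
    ⟨hr, hf, trivial, by
      rw [show Art.dd .E6 (r ^ f) = Nat.gcd 3 (r ^ f - 1) from rfl, Cfsg.Agent.S1063.result (F := K) hK]
      simp only [Art.NN, Art.num, mul_assoc]⟩
    ((Nat.gcd_dvd_left 3 (r ^ f - 1)).trans (by norm_num)) ht
    (by have := h.num.seven_le ht htm; omega) (htm.trans (h.dvd_card e)))
  generalize r ^ f = s at *
  have h4 : 1 * s ^ 10 ≤ (s - 1) * s ^ 10 := Nat.mul_le_mul_right _ (by omega)
  have h5 : s ^ 10 = s ^ 4 * s ^ 6 := by rw [← pow_add]
  have h6 : 2 ^ 4 ≤ s ^ 4 := Nat.pow_le_pow_left hs 4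
  have h7 : 2 ^ 4 * s ^ 6 ≤ s ^ 4 * s ^ 6 := Nat.mul_le_mul_right _ h6
  have h8 := pow_mono' (s := s) (a := 3) (b := 6) hs (by norm_num)
  omega

/-- **`F₄`.** -/
theorem row_f4 (h : Row k m P) {r : ℕ} (hr : r.Prime) (hrF : (r : F) ≠ 0) {K : Type} [Field K] [Fintype K]
    [CharP K r] (e : Soc P ≃* Lie.chevF4.group K) : False := by
  obtain ⟨f, hf, hK⟩ := exists_card (K := K) r
  have := h.simple e
  have hna := h.not_comm e
  have hs : 2 ≤ r ^ f := by rw [← hK]; exact Fintype.one_lt_card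
  have hreal : Art.Real .F4 r f (Nat.card (Lie.chevF4.group K)) := ⟨hr, hf, trivial, by
      rw [show Art.dd .F4 (r ^ f) = 1 from rfl, one_mul, Cfsg.Agent.S1062.result (F := K) hK]
      simp only [Art.NN, Art.num, mul_assoc]⟩
  have hr' : OrdDiv.Real (.f4 (r ^ f)) (Lie.chevF4.group K) := ⟨K, _, _, hK, ⟨MulEquiv.refl _⟩⟩
  by_cases h2 : r ^ f = 2
  · have hr2 : r = 2 := (Nat.prime_dvd_prime_iff_eq hr Nat.prime_two).1 (by rw [← h2]; exact dvd_pow_self r (by omega))
    subst hr2
    have h1 := h.le_of_ls e hrF (H95.LSx.ls_f4_two (hK.trans h2))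
    have h3 := h.num.nlt
    have h4 := card_aut_dvd hna (IsLie.f4 2 f) hr' hreal
    have hf1 : f = 1 := Nat.pow_right_injective le_rfl (h2.trans (pow_one 2).symm)
    subst hf1
    rw [show Art.dd .F4 (2 ^ 1) = 1 from rfl, Cfsg.Agent.S1062.result (F := K) (q := 2) (hK.trans (pow_one 2))] at h4
    have h5 : ∀ t, t.Prime → t ∣ 24 * 1 * 1 * (2 ^ 24 * (2 ^ 2 - 1) * (2 ^ 6 - 1) * (2 ^ 8 - 1) * (2 ^ 12 - 1)) →
        t ∣ 2 * 3 * 5 * 7 * 13 * 17 := fun t ht htd => by
      refine ht.dvd_of_dvd_pow (n := 40) (htd.trans ?_)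
      decide +kernel
    have h6 : ∀ t, t.Prime → t ∣ 24 * 1 * 1 * (2 ^ 24 * (2 ^ 2 - 1) * (2 ^ 6 - 1) * (2 ^ 8 - 1) * (2 ^ 12 - 1)) →
        k ∣ t - 1 → k + 1 ≤ t → (k = 12 ∧ t = 13) ∨ (k = 16 ∧ t = 17) := fun t ht htd hk1 hk2 => by
      have h7 := h5 t ht htd
      have h8 : t ∈ Nat.primeFactors (2 * 3 * 5 * 7 * 13 * 17) := by
        rw [Nat.mem_primeFactors]
        exact ⟨ht, h7, by norm_num⟩
      have h9 : t ≤ 17 := by
        rcases ht.dvd_mul.1 h7 with h7 | h7
        · rcases ht.dvd_mul.1 h7 with h7 | h7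
          · have := Nat.le_of_dvd (by norm_num) (show t ∣ 210 from h7)
            by_contra hcon
            have h10 : t ∣ 2 * 3 * 5 * 7 := h7
            rcases ht.dvd_mul.1 h10 with h10 | h10
            · rcases ht.dvd_mul.1 h10 with h10 | h10
              · have := Nat.le_of_dvd (by norm_num) h10
                omega
              · have := Nat.le_of_dvd (by norm_num) h10
                omega
            · have := Nat.le_of_dvd (by norm_num) h10
              omega
          · have := Nat.le_of_dvd (by norm_num) h7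
            omega
        · have := Nat.le_of_dvd (by norm_num) h7
          omega
      have h10 : 10 ≤ t := by omega
      clear h8
      interval_cases t
      · first | exact absurd h7 (by decide) | exact absurd ht (by norm_num)
      · first | exact absurd h7 (by decide) | exact absurd ht (by norm_num)
      · first | exact absurd h7 (by decide) | exact absurd ht (by norm_num)
      · left
        obtain ⟨c, hc⟩ := hk1
        have h11 : c = 1 := by
          have hc0 : c ≠ 0 := by rintro rfl; omega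
          by_contra h1
          have h12 : k * 2 ≤ k * c := Nat.mul_le_mul_left _ (by omega)
          omega
        subst h11
        omega
      · first | exact absurd h7 (by decide) | exact absurd ht (by norm_num)
      · first | exact absurd h7 (by decide) | exact absurd ht (by norm_num)
      · first | exact absurd h7 (by decide) | exact absurd ht (by norm_num)
      · right
        obtain ⟨c, hc⟩ := hk1
        have h11 : c = 1 := by
          have hc0 : c ≠ 0 := by rintro rfl; omega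
          by_contra h1
          have h12 : k * 2 ≤ k * c := Nat.mul_le_mul_left _ (by omega)
          omega
        subst h11
        omega
    obtain ⟨t, ht, htm⟩ := h.num.exists_prime
    rcases h6 t ht (htm.trans ((h.dvd_card e).trans h4)) (h.num.dvd_sub_one ht htm) (h.num.succ_le ht htm) with
      ⟨h7, rfl⟩ | ⟨h7, rfl⟩
    · refine h.kill e h4 (r₀ := 13) (by omega) (fun t ht htd hk1 hk2 => ?_) (by decide +kernel)
      rcases h6 t ht htd hk1 hk2 with h8 | h8
      · exact h8.2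
      · omega
    · refine h.kill e h4 (r₀ := 17) (by omega) (fun t ht htd hk1 hk2 => ?_) (by decide +kernel)
      rcases h6 t ht htd hk1 hk2 with h8 | h8
      · omega
      · exact h8.2
  · have hs3 : 3 ≤ r ^ f := by omega
    have h1 : (r ^ f - 1) * (r ^ f) ^ 4 ≤ n := by
      by_cases hc : (2 : K) = 0
      · have h1 := h.le_of_ls e hrF (H203.LS.F4even.ls_even K hc (by rw [Nat.card_eq_fintype_card, hK]; omega))
        rwa [Nat.card_eq_fintype_card, hK] at h1
      · have h1 := h.le_of_ls e hrF (H203.LS.F4odd.ls_odd K hc)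
        rwa [Nat.card_eq_fintype_card, hK] at h1
    obtain ⟨t, ht, htm⟩ := h.num.exists_prime
    have h2 := h.num.le_two_mul ht htm
    have h3 := num_f4 ht hs (prime_cases hna (IsLie.f4 r f) hr' hreal
      (by rw [show Art.dd .F4 (r ^ f) = 1 from rfl]; norm_num) ht
      (by have := h.num.seven_le ht htm; omega) (htm.trans (h.dvd_card e)))
    generalize r ^ f = s at *
    have h4 : 2 * s ^ 4 ≤ (s - 1) * s ^ 4 := Nat.mul_le_mul_right _ (by omega)
    omega

/-! ### `G₂` -/

theorem g2_fact {x : ℕ} (_hx : 2 ≤ x) : (x + 1) ^ 6 - 1 = (x * (x + 2)) * ((x ^ 2 + 3 * x + 3) * (x ^ 2 + x + 1)) := by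
  have : (x + 1) ^ 6 = (x * (x + 2)) * ((x ^ 2 + 3 * x + 3) * (x ^ 2 + x + 1)) + 1 := by ring
  omega

theorem g2_sq {x : ℕ} : (x + 1) ^ 2 - 1 = x * (x + 2) := by
  have : (x + 1) ^ 2 = x * (x + 2) + 1 := by ring
  omega

theorem g2_prime {x t n : ℕ} (hx : 2 ≤ x) (ht : t.Prime) (hn : x * (x + 1) ≤ n) (h2 : n + 3 ≤ 2 * t)
    (hd : t ≤ x + 1 ∨ t ∣ Art.num .G2 (x + 1)) : t = x ^ 2 + 3 * x + 3 ∨ t = x ^ 2 + x + 1 := by
  have hsm : ¬ t ≤ x + 2 := by
    intro h
    nlinarith
  rcases hd with hd | hd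
  · omega
  simp only [Art.num, g2_fact hx, g2_sq] at hd
  have key : t ∣ x * (x + 2) → False := by
    intro h
    rcases ht.dvd_mul.1 h with h | h
    · have := Nat.le_of_dvd (by omega) h
      omega
    · have := Nat.le_of_dvd (by omega) h
      omega
  rcases ht.dvd_mul.1 hd with h | h
  · exact (key h).elim
  rcases ht.dvd_mul.1 h with h | h
  · exact (key h).elim
  rcases ht.dvd_mul.1 h with ⟨c, hc⟩ | ⟨c, hc⟩
  · left
    have hc0 : c ≠ 0 := by
      rintro rfl
      rw [mul_zero] at hc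
      omega
    have hc2 : c ≠ 2 := by
      rintro rfl
      have h1 : Even (x ^ 2 + 3 * x + 3) := ⟨t, by omega⟩
      have h3 : Even (x ^ 2 + 3 * x) := by
        have : x ^ 2 + 3 * x = x * (x + 1) + 2 * x := by ring
        rw [this]
        exact (Nat.even_mul_succ_self x).add (even_two_mul x)
      rw [Nat.even_add] at h1
      exact absurd (h1.1 h3) (by decide)
    have hc3 : c < 3 := by
      by_contra hcon
      have h3 : t * 3 ≤ t * c := Nat.mul_le_mul_left _ (by omega)
      nlinarith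
    have hc1 : c = 1 := by omega
    rw [hc, hc1, mul_one]
  · right
    have hc0 : c ≠ 0 := by
      rintro rfl
      rw [mul_zero] at hc
      omega
    have hc1 : c = 1 := by
      by_contra hcon
      have h3 : t * 2 ≤ t * c := Nat.mul_le_mul_left _ (by omega)
      nlinarith
    rw [hc, hc1, mul_one]

theorem g2_b {x k : ℕ} (hk : x * (x + 1) < 2 * k) (hd : k ∣ x ^ 2 + x + 1 - 1) (h0 : 1 ≤ x) : k = x * (x + 1) := by
  obtain ⟨c, hc⟩ := hd
  have h1 : x ^ 2 + x + 1 - 1 = x * (x + 1) := by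
    rw [Nat.add_sub_cancel]
    ring
  rw [h1] at hc
  have hc0 : c ≠ 0 := by
    rintro rfl
    rw [mul_zero] at hc
    have : 0 < x * (x + 1) := by positivity
    omega
  have hc1 : c = 1 := by
    by_contra hcon
    have h3 : k * 2 ≤ k * c := Nat.mul_le_mul_left _ (by omega)
    omega
  rw [hc, hc1, mul_one]

theorem g2_ab {x k : ℕ} (hx : 3 ≤ x) (hk : x * (x + 1) < 2 * k) (hA : k ∣ x ^ 2 + 3 * x + 3 - 1)
    (hB : k ∣ x ^ 2 + x + 1 - 1) : False := by
  have h1 := g2_b hk hB (by omega)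
  have h2 : x ^ 2 + 3 * x + 3 - 1 = (x + 2) * (x + 1) := by
    have : x ^ 2 + 3 * x + 3 = (x + 2) * (x + 1) + 1 := by ring
    omega
  rw [h1, h2] at hA
  have h3 := Nat.dvd_of_mul_dvd_mul_right (by omega) hA
  have h4 : x ∣ 2 := (Nat.dvd_add_right dvd_rfl).1 h3
  have := Nat.le_of_dvd (by norm_num) h4
  omega

theorem g2_a {x k : ℕ} (hx : 4 ≤ x) (hk : x * (x + 1) < 2 * k) (hA : k ∣ x ^ 2 + 3 * x + 3 - 1) :
    x ^ 2 + 3 * x + 3 ≤ 2 * k + 1 := by
  obtain ⟨c, hc⟩ := hA
  by_cases h3 : c ≤ 2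
  · have h4 : k * c ≤ k * 2 := Nat.mul_le_mul_left _ h3
    omega
  · exfalso
    have h4 : k * 3 ≤ k * c := Nat.mul_le_mul_left _ (by omega)
    have h5 : k * c = (x + 2) * (x + 1) := by
      have : x ^ 2 + 3 * x + 3 = (x + 2) * (x + 1) + 1 := by ring
      omega
    nlinarith

theorem not_dvd_of_lt {t a : ℕ} (h0 : 0 < a) (h : a < t) : ¬ t ∣ a := fun h1 => by
  have := Nat.le_of_dvd h0 h1
  omega

theorem g2_nsq {x f t : ℕ} (hx : 3 ≤ x) (ht : t.Prime) (hf : 1 ≤ f) (hfx : f < x + 1)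
    (h : t = x ^ 2 + 3 * x + 3 ∨ t = x ^ 2 + x + 1) :
    ¬ t ^ 2 ∣ 24 * 1 * f * ((x + 1) ^ 6 * ((x + 1) ^ 2 - 1) * ((x + 1) ^ 6 - 1)) := by
  have ht13 : 13 ≤ t := by
    rcases h with rfl | rfl <;> nlinarith
  have hsm : x + 2 < t := by
    rcases h with rfl | rfl <;> nlinarith
  have hM : ¬ t ∣ 24 * f * (x + 1) ^ 6 * (x * (x + 2)) ^ 2 := by
    intro hd
    rcases ht.dvd_mul.1 hd with hd | hd
    · rcases ht.dvd_mul.1 hd with hd | hd
      · rcases ht.dvd_mul.1 hd with hd | hd
        · have h1 : t ∣ 2 ^ 3 * 3 := hd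
          rcases ht.dvd_mul.1 h1 with h1 | h1
          · exact not_dvd_of_lt (by norm_num) (by omega) (ht.dvd_of_dvd_pow h1)
          · exact not_dvd_of_lt (by norm_num) (by omega) h1
        · exact not_dvd_of_lt hf (by omega) hd
      · exact not_dvd_of_lt (by omega) (by omega) (ht.dvd_of_dvd_pow hd)
    · rcases ht.dvd_mul.1 (ht.dvd_of_dvd_pow hd) with hd | hd
      · exact not_dvd_of_lt (by omega) (by omega) hd
      · exact not_dvd_of_lt (by omega) (by omega) hd
  intro hd
  rw [g2_fact (by omega), g2_sq] at hd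
  have e1 : 24 * 1 * f * ((x + 1) ^ 6 * (x * (x + 2)) * ((x * (x + 2)) * ((x ^ 2 + 3 * x + 3) * (x ^ 2 + x + 1)))) =
      (x ^ 2 + 3 * x + 3) * ((x ^ 2 + x + 1) * (24 * f * (x + 1) ^ 6 * (x * (x + 2)) ^ 2)) := by ring
  rw [e1, pow_two t] at hd
  rcases h with h | h
  · rw [← h] at hd
    have h1 := Nat.dvd_of_mul_dvd_mul_left ht.pos hd
    rcases ht.dvd_mul.1 h1 with h1 | h1
    · refine not_dvd_of_lt (by positivity) ?_ h1
      rw [h]; nlinarith
    · exact hM h1
  · rw [← h, mul_left_comm] at hd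
    have h1 := Nat.dvd_of_mul_dvd_mul_left ht.pos hd
    rcases ht.dvd_mul.1 h1 with h1 | h1
    · have h2 : x ^ 2 + 3 * x + 3 = t + 2 * (x + 1) := by rw [h]; ring
      rw [h2] at h1
      have h3 := (Nat.dvd_add_right dvd_rfl).1 h1
      refine not_dvd_of_lt (by omega) ?_ h3
      rw [h]; nlinarith
    · exact hM h1

/-- no element of order `7 · 13` in `G₂(4)` -/
theorem g2_four {K : Type} [Field K] [Fintype K] (hK : Fintype.card K = 4) {y : Lie.chevG2.group K} {m : ℕ}
    (hy : orderOf y = m) (hm : m ≠ 0) (h7 : 7 ∣ m) (h13 : 13 ∣ m) : False := by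
  have hex := H129.CycT.exact_G2_6 (F := K) hK (N := 13) (by norm_num) (by norm_num)
  obtain ⟨a, ha⟩ := h13
  obtain ⟨b, hb⟩ := h7
  have ha0 : a ≠ 0 := by rintro rfl; omega
  have hb0 : b ≠ 0 := by rintro rfl; omega
  have h1 : orderOf (y ^ a) = 13 := by
    rw [orderOf_pow' y ha0, hy, ha, Nat.gcd_mul_left_left, Nat.mul_div_cancel _ (Nat.pos_of_ne_zero ha0)]
  have h2 : orderOf (y ^ b) = 7 := by
    rw [orderOf_pow' y hb0, hy, hb, Nat.gcd_mul_left_left, Nat.mul_div_cancel _ (Nat.pos_of_ne_zero hb0)]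
  have h3 := hex.card_centralizer (by norm_num) dvd_rfl h1
  have h4 : y ^ b ∈ Subgroup.centralizer ({y ^ a} : Set (Lie.chevG2.group K)) := by
    rw [Subgroup.mem_centralizer_singleton_iff, ← pow_add, ← pow_add, add_comm]
  have h5 : orderOf (⟨y ^ b, h4⟩ : ↥(Subgroup.centralizer ({y ^ a} : Set (Lie.chevG2.group K)))) ∣ 13 := by
    rw [← h3]
    exact orderOf_dvd_natCard _
  rw [Subgroup.orderOf_mk, h2] at h5
  exact absurd h5 (by norm_num)

/-- **`G₂`.** -/
theorem row_g2 (h : Row k m P) {r : ℕ} (hr : r.Prime) (hrF : (r : F) ≠ 0) {K : Type} [Field K] [Fintype K]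
    [CharP K r] (h3 : 3 ≤ Fintype.card K) (e : Soc P ≃* Lie.chevG2.group K) : False := by
  obtain ⟨f, hf, hK⟩ := exists_card (K := K) r
  rw [hK] at h3
  have := h.simple e
  have hna := h.not_comm e
  have hreal : Art.Real .G2 r f (Nat.card (Lie.chevG2.group K)) := ⟨hr, hf, h3, by
      rw [show Art.dd .G2 (r ^ f) = 1 from rfl, one_mul, Cfsg.Agent.S1059.result (F := K) hK]
      simp only [Art.NN, Art.num, mul_assoc]⟩
  have hr' : OrdDiv.Real (.g2 (r ^ f)) (Lie.chevG2.group K) := ⟨K, _, _, hK, ⟨MulEquiv.refl _⟩⟩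
  have hnlt := h.num.nlt
  have hten := h.num.ten
  have haut := card_aut_dvd hna (IsLie.g2 r f) hr' hreal
  rw [show Art.dd .G2 (r ^ f) = 1 from rfl, Cfsg.Agent.S1059.result (F := K) hK] at haut
  rcases (by omega : r ^ f = 3 ∨ r ^ f = 4 ∨ 5 ≤ r ^ f) with h34 | h34 | h5
  · -- `G₂(3)`
    have hr3 : r = 3 := (Nat.prime_dvd_prime_iff_eq hr Nat.prime_three).1
      (by rw [← h34]; exact dvd_pow_self r (by omega))
    subst hr3
    have hf1 : f = 1 := Nat.pow_right_injective (by norm_num) (h34.trans (pow_one 3).symm)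
    subst hf1
    have h1 := h.le_of_ls e hrF (H95.LSx.G23.ls (hK.trans h34))
    refine h.kill e haut (r₀ := 13) (by omega) (fun t ht htd hk1 hk2 => ?_) (by decide +kernel)
    have h7 : t ∣ 2 * 3 * 7 * 13 := ht.dvd_of_dvd_pow (n := 20) (htd.trans (by decide +kernel))
    rcases ht.dvd_mul.1 h7 with h8 | h8
    · exfalso
      rcases ht.dvd_mul.1 h8 with h8 | h8
      · have := Nat.le_of_dvd (by norm_num) h8
        omega
      · have := Nat.le_of_dvd (by norm_num) h8
        omega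
    · exact (Nat.prime_dvd_prime_iff_eq ht (by norm_num)).1 h8
  · -- `G₂(4)`
    have hr2 : r = 2 := (Nat.prime_dvd_prime_iff_eq hr Nat.prime_two).1
      ((hr.dvd_of_dvd_pow (n := 2) (by
        rw [show 2 ^ 2 = 4 from rfl, ← h34]; exact dvd_pow_self r (by omega))))
    subst hr2
    have hf1 : f = 2 := Nat.pow_right_injective le_rfl (h34.trans (by norm_num))
    subst hf1
    have h5 : ∀ t, t.Prime → t ∣ 24 * 1 * 2 * ((2 ^ 2) ^ 6 * ((2 ^ 2) ^ 2 - 1) * ((2 ^ 2) ^ 6 - 1)) →
        k + 1 ≤ t → t = 7 ∨ t = 13 := fun t ht htd hk => by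
      have h7 : t ∣ 2 * 3 * 5 * 7 * 13 := ht.dvd_of_dvd_pow (n := 30) (htd.trans (by decide +kernel))
      rcases ht.dvd_mul.1 h7 with h8 | h8
      · rcases ht.dvd_mul.1 h8 with h8 | h8
        · exfalso
          rcases ht.dvd_mul.1 (show t ∣ 6 * 5 from h8) with h8 | h8
          · have := Nat.le_of_dvd (by norm_num) h8
            have h9 : t = 6 := by omega
            rw [h9] at ht
            exact absurd ht (by norm_num)
          · have := Nat.le_of_dvd (by norm_num) h8
            omega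
        · exact Or.inl ((Nat.prime_dvd_prime_iff_eq ht (by norm_num)).1 h8)
      · exact Or.inr ((Nat.prime_dvd_prime_iff_eq ht (by norm_num)).1 h8)
    by_cases hk6 : k = 6
    · have hmN := (h.dvd_card e).trans haut
      have hmlt := h.num.mlt
      have h49 : ¬ 7 ^ 2 ∣ m := fun h1 => absurd (h1.trans hmN) (by decide +kernel)
      have h169 : ¬ 13 ^ 2 ∣ m := fun h1 => absurd (h1.trans hmN) (by decide +kernel)
      have h13 : 13 ∣ m := by
        by_contra hcon
        refine h.num.kill (r₀ := 7) (by omega) (fun t ht htm => ?_) h49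
        rcases h5 t ht (htm.trans hmN) (h.num.succ_le ht htm) with h6 | h6
        · exact h6
        · exact absurd (h6 ▸ htm) hcon
      have h7 : 7 ∣ m := by
        by_contra hcon
        refine h.num.kill (r₀ := 13) (by omega) (fun t ht htm => ?_) h169
        rcases h5 t ht (htm.trans hmN) (h.num.succ_le ht htm) with h6 | h6
        · exact absurd (h6 ▸ htm) hcon
        · exact h6
      have hout : Nat.card (Cfsg.Out (Lie.chevG2.group K)) ∣ 48 := by
        obtain ⟨c, hc1, hc2, -⟩ := H364.OutLie.card_out (fun h => hna ⟨⟨h⟩⟩) (IsLie.g2 2 2) hr' hreal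
        rw [hc1]
        exact Nat.mul_dvd_mul_right (show c ∣ 24 from hc2) 2
      obtain ⟨y, hy⟩ := h.exists_elt e (by
        refine Nat.Coprime.coprime_dvd_right hout ?_
        rw [Nat.coprime_iff_gcd_eq_one]
        by_contra hne
        obtain ⟨t, ht, htd⟩ := Nat.exists_prime_and_dvd hne
        have h8 := h.num.seven_le ht (htd.trans (Nat.gcd_dvd_left _ _))
        have h9 : t ∣ 2 ^ 4 * 3 := htd.trans (Nat.gcd_dvd_right _ _)
        rcases ht.dvd_mul.1 h9 with h10 | h10
        · exact not_dvd_of_lt (by norm_num) (by omega) (ht.dvd_of_dvd_pow h10)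
        · exact not_dvd_of_lt (by norm_num) (by omega) h10)
      exact g2_four (hK.trans h34) hy h.num.m_ne h7 h13
    · have hk7 : 7 ≤ k := by
        have := h.num.six_le
        omega
      refine h.kill e haut (r₀ := 13) (by omega) (fun t ht htd hk1 hk2 => ?_) (by decide +kernel)
      rcases h5 t ht htd hk2 with h6 | h6
      · omega
      · exact h6
  · -- the general case
    have h1 := h.le_of_ls e hrF (H203.LS.G2.ls K (by rw [Nat.card_eq_fintype_card, hK]; omega)
      (by rw [Nat.card_eq_fintype_card, hK]; omega))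
    rw [Nat.card_eq_fintype_card, hK] at h1
    have hfx : f < r ^ f := Nat.lt_pow_self hr.one_lt
    have hpr : ∀ t, t.Prime → 5 ≤ t → t ∣ 24 * 1 * f * ((r ^ f) ^ 6 * ((r ^ f) ^ 2 - 1) * ((r ^ f) ^ 6 - 1)) →
        t ≤ r ^ f ∨ t ∣ Art.num .G2 (r ^ f) := fun t ht h5 hd => by
      rcases ht.dvd_mul.1 hd with hd | hd
      · rcases ht.dvd_mul.1 hd with hd | hd
        · exfalso
          rcases ht.dvd_mul.1 (show t ∣ 2 ^ 3 * 3 from hd) with h10 | h10
          · exact not_dvd_of_lt (by norm_num) (by omega) (ht.dvd_of_dvd_pow h10)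
          · exact not_dvd_of_lt (by norm_num) (by omega) h10
        · exact Or.inl ((Nat.le_of_dvd hf hd).trans hfx.le)
      · rw [mul_assoc] at hd
        rcases ht.dvd_mul.1 hd with hd | hd
        · exact Or.inl (Nat.le_of_dvd (by omega) (ht.dvd_of_dvd_pow hd))
        · exact Or.inr hd
    obtain ⟨x, hx⟩ : ∃ x, r ^ f = x + 1 := ⟨r ^ f - 1, by omega⟩
    rw [hx] at h5 h1 hfx hpr haut
    rw [Nat.add_sub_cancel] at h1
    have hfin : ∀ t, t.Prime → t ∣ 24 * 1 * f * ((x + 1) ^ 6 * ((x + 1) ^ 2 - 1) * ((x + 1) ^ 6 - 1)) →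
        k + 1 ≤ t → t = x ^ 2 + 3 * x + 3 ∨ t = x ^ 2 + x + 1 := fun t ht hd hk =>
      g2_prime (by omega) ht h1 (by omega) (hpr t ht (by omega) hd)
    have hkx : x * (x + 1) < 2 * k := lt_of_le_of_lt h1 hnlt
    obtain ⟨t, ht, htm⟩ := h.num.exists_prime
    have h6 := hfin t ht (htm.trans ((h.dvd_card e).trans haut)) (h.num.succ_le ht htm)
    have hkt := h.num.dvd_sub_one ht htm
    refine h.kill e haut (r₀ := t) ?_ (fun t' ht' htd hk1 hk2 => ?_) (g2_nsq (by omega) ht hf hfx h6)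
    · rcases h6 with h6 | h6
      · rw [h6] at hkt ⊢
        exact g2_a (by omega) hkx hkt
      · rw [h6] at hkt ⊢
        have h7 := g2_b hkx hkt (by omega)
        have h8 : x ^ 2 + x = x * (x + 1) := by ring
        omega
    · rcases hfin t' ht' htd hk2 with h7 | h7
      · rcases h6 with h6 | h6
        · rw [h6, h7]
        · rw [h7] at hk1
          rw [h6] at hkt
          exact (g2_ab (by omega) hkx hk1 hkt).elim
      · rcases h6 with h6 | h6
        · rw [h7] at hk1
          rw [h6] at hkt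
          exact (g2_ab (by omega) hkx hkt hk1).elim
        · rw [h6, h7]

end rows

end Cfsg.Agent.H371.Ppd
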